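import Groth.Agent.Models.K567.GalInv0
import Groth.Agent.PicF.K247.GrpZero
import Groth.Agent.Picfga.RatPts
import Groth.Agent.Models.K511.PicInj
import Groth.Prelude.Def_SGA7IX

/-!
# Points of `Pic⁰` over a separably closed field are `Pic⁰` classes

`f : C ⟶ Spec L` smooth proper geometrically connected, `(J, φ)` its (fppf) `Pic⁰`, `Ω/L` separably closed.

* `phi_inj`, `exists_class`: `c ↦ φ c` is a bijection from the `Pic⁰` classes of `C_Ω` onto `J(Ω)`;
* for a smooth proper curve, `n ≠ 0`: `torsEquiv`, the `n`-torsion classes of `C_Ω` are the `n`-torsion points of `J`, compatibly with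
  products (`torsEquiv_mul`) and with the Galois action (`torsEquiv_tw`);
* `dev_phi`, `dev_dev`: the operators `σ - 1` on torsion points in terms of classes.
-/

set_option autoImplicit false
universe u
open CategoryTheory CategoryTheory.Limits MonoidalCategory CartesianMonoidalCategory MonObj GrpObj AlgebraicGeometry

namespace Groth.Agent.Models.K567.PtsDict

open Groth.Agent.Grpsch.PicGrp Groth.Agent.Picfga.FieldSections Groth.Agent.Picfga.GaloisAct Groth.Agent.Fga.RigGrp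
  K530.PicZero K247.BC Groth.Agent.Models.K567.GalInv

variable {L : Type u} [Field L] {C : Scheme.{u}} (f : C ⟶ Spec (CommRingCat.of L)) {Ω : Type u} [Field Ω] [Algebra L Ω]

/-- `Spec Ω` over `Spec L`, in the two forms. -/
noncomputable abbrev toDn (b : Spec (CommRingCat.of Ω) ⟶ Spec (CommRingCat.of L)) :
    Over.mk b ⟶ dn b (Over.mk (𝟙 (Spec (CommRingCat.of Ω)))) :=
  Over.homMk (𝟙 _) (by
    change 𝟙 _ ≫ 𝟙 _ ≫ b = b
    rw [Category.id_comp, Category.id_comp])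

noncomputable abbrev ofDn (b : Spec (CommRingCat.of Ω) ⟶ Spec (CommRingCat.of L)) :
    dn b (Over.mk (𝟙 (Spec (CommRingCat.of Ω)))) ⟶ Over.mk b :=
  Over.homMk (𝟙 _) (by
    change 𝟙 _ ≫ b = 𝟙 _ ≫ b
    rfl)

omit [Algebra L Ω] in
theorem toDn_ofDn (b : Spec (CommRingCat.of Ω) ⟶ Spec (CommRingCat.of L)) : toDn b ≫ ofDn b = 𝟙 _ :=
  Over.OverMorphism.ext (Category.comp_id _)

omit [Algebra L Ω] in
theorem ofDn_toDn (b : Spec (CommRingCat.of Ω) ⟶ Spec (CommRingCat.of L)) : ofDn b ≫ toDn b = 𝟙 _ :=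
  Over.OverMorphism.ext (Category.comp_id _)

section

variable [IsProper f] [Smooth f] [GeometricallyConnected f] [Nonempty C]
  {J : Over (Spec (CommRingCat.of L))}
  {φ : ∀ T : Over (Spec (CommRingCat.of L)), PicF.Cl (PicF.XT f T) → (T ⟶ J)}

omit [IsProper f] [GeometricallyConnected f] in
variable (Ω) in
/-- A section of `C_Ω`. -/
theorem exists_section [IsSepClosed Ω] : ∃ s : Spec (CommRingCat.of Ω) ⟶ pullback f (bc L Ω), s ≫ pullback.snd f (bc L Ω) = 𝟙 _ := by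
  have h0 : Surjective (pullback.fst f (bc L Ω)) := inferInstance
  obtain ⟨x, -⟩ := h0.surj (Classical.arbitrary C)
  exact Groth.Agent.Picfga.RatPts.exists_section_of_smooth (pullback.snd f (bc L Ω)) x

/-- Classes on `C_Ω` in `Pic⁰` with the same image under `φ` are equal. -/
theorem phi_inj [IsSepClosed Ω] (hJ : AbDual.IsRelPicZeroK Scheme.fppfPrecoverage f J φ)
    (a b : Pic (pullback f (bc L Ω)))
    (ha : FibZero (PicF.XTproj f (Over.mk (bc L Ω))) a) (hb : FibZero (PicF.XTproj f (Over.mk (bc L Ω))) b)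
    (h : φ (Over.mk (bc L Ω)) (toCl a) = φ (Over.mk (bc L Ω)) (toCl b)) : a = b := by
  obtain ⟨s, hs⟩ := exists_section f Ω
  let β := bc L Ω
  let T : Over (Spec (CommRingCat.of Ω)) := Over.mk (𝟙 _)
  let fΩ := pullback.snd f β
  have hJΩ := isRelPicZeroK f β hJ
  -- transport to `C_Ω`
  let up : Pic (pullback f β) → Pic (PicF.XT fΩ T) := fun c => pull (cmp f β T) (pull (PicF.XTmap f (ofDn β)) c)
  have hup : ∀ c, FibZero (PicF.XTproj f (Over.mk β)) c → FibZero (PicF.XTproj fΩ T) (up c) := fun c hc =>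
    (hc.pull _ _ (XTmap_XTproj f (ofDn β))).pull (g' := PicF.XTproj fΩ T) (cmp f β T) (𝟙 _)
      (by rw [cmp_snd]; exact (Category.comp_id _).symm)
  have hφ : ∀ c, FibZero (PicF.XTproj f (Over.mk β)) c → bcφ f β φ T (toCl (up c)) = K247.BC.lift β (ofDn β ≫ φ (Over.mk β) (toCl c)) := by
    intro c hc
    have h1 : tr f β T (up c) = pull (PicF.XTmap f (ofDn β)) c := tr_cmp f β T _
    rw [bcφ_toCl, h1, toCl_pull]
    exact congrArg _ (hJ.natural _ _ (ofDn β) _ ((isPicZeroCl_toCl_iff f (Over.mk β) c).2 hc))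
  have hinj : Function.Injective up := by
    intro c d hcd
    have h1 := congrArg (tr f β T) hcd
    have h2 : ∀ c, tr f β T (up c) = pull (PicF.XTmap f (ofDn β)) c := fun c => tr_cmp f β T _
    rw [h2, h2] at h1
    have h3 := congrArg (pull (PicF.XTmap f (toDn β))) h1
    rw [← pull_comp, ← pull_comp, ← XTmap_comp, toDn_ofDn, XTmap_id, pull_id, pull_id] at h3
    exact h3
  apply hinj
  have hnorm : ∀ c : Pic (PicF.XT fΩ T), norm fΩ s hs T c = c := fun c => by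
    rw [norm_apply]
    have h1 : pull (PicF.secT fΩ s hs T) c = 1 := pic_spec_local Ω _
    rw [h1, map_one, div_one]
  have hmem : ∀ c : Pic (PicF.XT fΩ T), c ∈ Rg fΩ s hs T := fun c => by
    have := norm_mem fΩ s hs T c
    rwa [hnorm] at this
  refine K247.GrpZero.phi_injective s hs hJΩ T _ _ (hmem _) (hmem _) (hup a ha) (hup b hb) ?_
  rw [hφ a ha, hφ b hb, h]

/-- Every point of `J` over `Ω` is the image of a `Pic⁰` class on `C_Ω`. -/
theorem exists_class [IsSepClosed Ω] (hJ : AbDual.IsRelPicZeroK Scheme.fppfPrecoverage f J φ) (x : SGA7.Pts Ω J) :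
    ∃ c : Pic (pullback f (bc L Ω)), FibZero (PicF.XTproj f (Over.mk (bc L Ω))) c ∧
      φ (Over.mk (bc L Ω)) (toCl c) = x := by
  obtain ⟨s, hs⟩ := exists_section f Ω
  let β := bc L Ω
  let T : Over (Spec (CommRingCat.of Ω)) := Over.mk (𝟙 _)
  let fΩ := pullback.snd f β
  have hJΩ := isRelPicZeroK f β hJ
  let x' : Over.mk β ⟶ J := x
  obtain ⟨c₀, -, hc₀, hφ⟩ := K247.GrpZero.exists_rig s hs hJΩ T (K247.BC.lift β (ofDn β ≫ x'))
  have h1 : FibZero (PicF.XTproj f (dn β T)) (tr f β T c₀) :=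
    (isPicZeroCl_toCl_iff f (dn β T) _).1 ((isPicZeroCl_tr_iff f β T c₀).2 ((isPicZeroCl_toCl_iff fΩ T c₀).2 hc₀))
  have h2 : φ (dn β T) (toCl (tr f β T c₀)) = ofDn β ≫ x' := by
    rw [← bcφ_pr f β φ T c₀, hφ, lift_pr]
  refine ⟨pull (PicF.XTmap f (toDn β)) (tr f β T c₀), h1.pull _ _ (XTmap_XTproj f (toDn β)), ?_⟩
  rw [toCl_pull]
  refine (hJ.natural _ _ (toDn β) _ ((isPicZeroCl_toCl_iff f (dn β T) _).2 h1)).trans ?_
  rw [h2, ← Category.assoc, toDn_ofDn, Category.id_comp]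

end

/-! ### Torsion classes and torsion points of the Jacobian of a curve -/

section curve

variable (hC : Curve.IsSmoothProperCurve L C f) (hH0 : IsIso f.appTop)
  {J : Over (Spec (CommRingCat.of L))} [GrpObj J]
  {φ : ∀ T : Over (Spec (CommRingCat.of L)), PicF.Cl (PicF.XT f T) → (T ⟶ J)}
  (hD : AbDual.IsDualAV Scheme.fppfPrecoverage (Over.mk f) J φ)

include hD in
theorem phi_inv (T : Over (Spec (CommRingCat.of L))) (a : Pic (PicF.XT f T)) (ha : FibZero (PicF.XTproj f T) a) :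
    φ T (toCl a⁻¹) = (φ T (toCl a))⁻¹ := by
  have h1 := GalInv.phi_mul hD T a a⁻¹ ha ha.inv
  rw [mul_inv_cancel] at h1
  have h2 := GalInv.phi_one hD T
  exact (inv_eq_of_mul_eq_one_right (h1.symm.trans h2)).symm

include hD in
/-- `φ` kills only the trivial class. -/
theorem phi_eq_one_iff (hC : Curve.IsSmoothProperCurve L C f) (hH0 : IsIso f.appTop) (c : Pic (pullback f (bc L Ω)))
    (hc : FibZero (PicF.XTproj f (Over.mk (bc L Ω))) c) :
    φ (Over.mk (bc L Ω)) (toCl c) = 1 ↔ c = 1 := by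
  have h1 : φ (Over.mk (bc L Ω)) (toCl (1 : Pic (pullback f (bc L Ω)))) = 1 := GalInv.phi_one hD (Over.mk (bc L Ω))
  constructor
  · intro h
    exact K511.PicInj.phi_inj f hC hH0 J φ hD.relPic Ω c 1 hc (FibZero.one _) (h.trans h1.symm)
  · rintro rfl
    exact h1

include hD in
theorem phi_pow_eq_one_iff (hC : Curve.IsSmoothProperCurve L C f) (hH0 : IsIso f.appTop) (c : Pic (pullback f (bc L Ω)))
    (hc : FibZero (PicF.XTproj f (Over.mk (bc L Ω))) c) (n : ℕ) :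
    φ (Over.mk (bc L Ω)) (toCl c) ^ n = 1 ↔ c ^ n = 1 := by
  rw [← phi_eq_one_iff f hD hC hH0 (c ^ n) (GalInv.fibZero_pow hc n)]
  have h1 : φ (Over.mk (bc L Ω)) (toCl (c ^ n)) = φ (Over.mk (bc L Ω)) (toCl c) ^ n :=
    GalInv.phi_pow hD (Over.mk (bc L Ω)) c hc n
  rw [h1]

include hC hH0 hD in
/-- Every torsion point comes from a torsion class. -/
theorem exists_tors [IsSepClosed Ω] (n : ℕ) (x : SGA7.Pts Ω J) (hx : x ^ n = 1) :
    ∃ c : Pic (pullback f (bc L Ω)), c ^ n = 1 ∧ FibZero (PicF.XTproj f (Over.mk (bc L Ω))) c ∧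
      φ (Over.mk (bc L Ω)) (toCl c) = x := by
  have h1 : IsProper f := hC.1
  have h2 : Smooth f := hC.2.1
  have h3 := K511.PicInj.geometricallyConnected f hC hH0
  have h4 : IsIntegral C := hC.2.2.1
  have h5 : Nonempty C := inferInstance
  obtain ⟨c, hc, hcx⟩ := exists_class f hD.relPic x
  refine ⟨c, (phi_pow_eq_one_iff f hD hC hH0 c hc n).1 ?_, hc, hcx⟩
  rw [hcx]
  exact hx

/-- **The `n`-torsion classes of `C_Ω` are the `n`-torsion points of the Jacobian.** -/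
noncomputable def torsEquiv [IsSepClosed Ω] (n : ℕ) (hn : n ≠ 0) :
    {c : Pic (pullback f (bc L Ω)) // c ^ n = 1} ≃ {x : SGA7.Pts Ω J // x ^ n = 1} :=
  Equiv.ofBijective
    (fun c => ⟨φ (Over.mk (bc L Ω)) (toCl c.1), (phi_pow_eq_one_iff f hD hC hH0 c.1
      (K511.PicInj.fibZero f hC hH0 Ω c.1 n hn c.2) n).2 c.2⟩)
    ⟨fun a b h => Subtype.ext (K511.PicInj.phi_inj f hC hH0 J φ hD.relPic Ω a.1 b.1
        (K511.PicInj.fibZero f hC hH0 Ω a.1 n hn a.2) (K511.PicInj.fibZero f hC hH0 Ω b.1 n hn b.2)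
        (congrArg Subtype.val h)),
      fun x => by
        obtain ⟨c, hc, -, h⟩ := exists_tors f hC hH0 hD n x.1 x.2
        exact ⟨⟨c, hc⟩, Subtype.ext h⟩⟩

theorem torsEquiv_val [IsSepClosed Ω] (n : ℕ) (hn : n ≠ 0) (c : {c : Pic (pullback f (bc L Ω)) // c ^ n = 1}) :
    (torsEquiv f hC hH0 hD n hn c).1 = φ (Over.mk (bc L Ω)) (toCl c.1) := rfl

theorem torsEquiv_mul [IsSepClosed Ω] (n : ℕ) (hn : n ≠ 0) (a b c : {c : Pic (pullback f (bc L Ω)) // c ^ n = 1})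
    (h : c.1 = a.1 * b.1) :
    (torsEquiv f hC hH0 hD n hn c).1 = (torsEquiv f hC hH0 hD n hn a).1 * (torsEquiv f hC hH0 hD n hn b).1 := by
  rw [torsEquiv_val, torsEquiv_val, torsEquiv_val, h]
  exact GalInv.phi_mul hD (Over.mk (bc L Ω)) a.1 b.1 (K511.PicInj.fibZero f hC hH0 Ω a.1 n hn a.2)
    (K511.PicInj.fibZero f hC hH0 Ω b.1 n hn b.2)

theorem torsEquiv_tw [IsSepClosed Ω] (n : ℕ) (hn : n ≠ 0) (σ : Ω ≃ₐ[L] Ω)
    (c d : {c : Pic (pullback f (bc L Ω)) // c ^ n = 1}) (h : d.1 = pull (tw f σ) c.1) :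
    (torsEquiv f hC hH0 hD n hn d).1 = SGA7.galAct σ (torsEquiv f hC hH0 hD n hn c).1 := by
  rw [torsEquiv_val, torsEquiv_val, h]
  exact GalInv.phi_tw f hD.relPic σ c.1 (K511.PicInj.fibZero f hC hH0 Ω c.1 n hn c.2)

include hD in
/-- The operator `σ - 1` on points in terms of classes. -/
theorem dev_phi (σ : Ω ≃ₐ[L] Ω) (c : Pic (pullback f (bc L Ω)))
    (hc : FibZero (PicF.XTproj f (Over.mk (bc L Ω))) c) :
    SGA7.dev σ (φ (Over.mk (bc L Ω)) (toCl c)) = φ (Over.mk (bc L Ω)) (toCl (pull (tw f σ) c * c⁻¹)) := by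
  have h1 : φ (Over.mk (bc L Ω)) (toCl (pull (tw f σ) c * c⁻¹)) =
      φ (Over.mk (bc L Ω)) (toCl (pull (tw f σ) c)) * φ (Over.mk (bc L Ω)) (toCl c⁻¹) :=
    GalInv.phi_mul hD (Over.mk (bc L Ω)) _ _ (GalInv.fibZero_tw f σ c hc) hc.inv
  have h2 : φ (Over.mk (bc L Ω)) (toCl c⁻¹) = (φ (Over.mk (bc L Ω)) (toCl c))⁻¹ :=
    phi_inv f hD (Over.mk (bc L Ω)) c hc
  rw [h1, GalInv.phi_tw f hD.relPic σ c hc, h2]
  rfl

include hC hH0 hD in
/-- **Unipotence on the torsion points from unipotence on the torsion classes.** -/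
theorem dev_dev [IsSepClosed Ω] (n : ℕ) (σ τ : Ω ≃ₐ[L] Ω)
    (h : ∀ c : Pic (pullback f (bc L Ω)), c ^ n = 1 →
      pull (tw f σ) (pull (tw f τ) c * c⁻¹) = pull (tw f τ) c * c⁻¹)
    (x : SGA7.Pts Ω J) (hx : x ^ n = 1) : SGA7.dev σ (SGA7.dev τ x) = 1 := by
  obtain ⟨c, hc, hc0, rfl⟩ := exists_tors f hC hH0 hD n x hx
  have h0 : FibZero (PicF.XTproj f (Over.mk (bc L Ω))) (pull (tw f τ) c * c⁻¹) :=
    (GalInv.fibZero_tw f τ c hc0).mul hc0.inv
  rw [dev_phi f hD τ c hc0, dev_phi f hD σ _ h0, h c hc, mul_inv_cancel]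
  exact GalInv.phi_one hD (Over.mk (bc L Ω))

include hC hH0 hD in
/-- Torsion points are Galois invariant if and only if torsion classes are. -/
theorem invariant_iff [IsSepClosed Ω] (n : ℕ) (hn : n ≠ 0) (σ : Ω ≃ₐ[L] Ω) :
    (∀ x : SGA7.Pts Ω J, x ^ n = 1 → SGA7.galAct σ x = x) ↔
      ∀ c : Pic (pullback f (bc L Ω)), c ^ n = 1 → pull (tw f σ) c = c := by
  constructor
  · intro h c hc
    have hc0 := K511.PicInj.fibZero f hC hH0 Ω c n hn hc
    refine K511.PicInj.phi_inj f hC hH0 J φ hD.relPic Ω _ _ (GalInv.fibZero_tw f σ c hc0) hc0 ?_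
    rw [GalInv.phi_tw f hD.relPic σ c hc0]
    exact h _ ((phi_pow_eq_one_iff f hD hC hH0 c hc0 n).2 hc)
  · intro h x hx
    obtain ⟨c, hc, hc0, rfl⟩ := exists_tors f hC hH0 hD n x hx
    rw [← GalInv.phi_tw f hD.relPic σ c hc0, h c hc]

end curve

end Groth.Agent.Models.K567.PtsDict
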