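import Groth.Agent.AbVar.K530.PicZero
import Groth.Agent.Models.H58.GalDesc
import Groth.Prelude.Def_SGA7a

/-!
# Galois invariance of the torsion of the Picard group from Galois invariance of the torsion of the dual

Let `f : C ⟶ Spec L` be a morphism, `(J, φ)` its (fppf) `Pic⁰` with `φ` multiplicative, `Ω/L` a field extension such that `Aut(Ω/L)`
acts trivially on the `n`-torsion points of `J(Ω)`. If a class `c` on `C_Ω` with `c ^ n = 1` is in `Pic⁰` and `φ` is injective on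
`Pic⁰` classes of `C_Ω`, then `c` is fixed by all twists `tw f σ`.
-/

set_option autoImplicit false
universe u
open CategoryTheory CategoryTheory.Limits MonoidalCategory CartesianMonoidalCategory MonObj GrpObj AlgebraicGeometry

namespace Groth.Agent.Models.K567.GalInv

open Groth.Agent.Grpsch.PicGrp Groth.Agent.Picfga.FieldSections Groth.Agent.Picfga.GaloisAct Groth.Agent.Fga.RigGrp
  K530.PicZero

section mul

variable {S : Scheme.{u}} {A J : Over S} [GrpObj J] {φ : ∀ T : Over S, PicF.Cl (PicF.XT A.hom T) → (T ⟶ J)}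

theorem phi_mul (hD : AbDual.IsDualAV Scheme.fppfPrecoverage A J φ) (T : Over S) (a b : Pic (PicF.XT A.hom T))
    (ha : FibZero (PicF.XTproj A.hom T) a) (hb : FibZero (PicF.XTproj A.hom T) b) :
    φ T (toCl (a * b)) = φ T (toCl a) * φ T (toCl b) := by
  rw [← isPicZeroCl_toCl_iff] at ha hb
  obtain ⟨M, hM, rfl⟩ := exists_mk a
  obtain ⟨N, hN, rfl⟩ := exists_mk b
  rw [mk_mul_mk, toCl_mk, toCl_mk, toCl_mk]
  exact hD.mul T M N ha hb

theorem phi_one (hD : AbDual.IsDualAV Scheme.fppfPrecoverage A J φ) (T : Over S) :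
    φ T (toCl (1 : Pic (PicF.XT A.hom T))) = 1 := by
  have h := phi_mul hD T 1 1 (FibZero.one _) (FibZero.one _)
  rw [_root_.mul_one] at h
  exact (mul_eq_left.mp h.symm)

theorem fibZero_pow {Y T : Scheme.{u}} {g : Y ⟶ T} {a : Pic Y} (ha : FibZero g a) (n : ℕ) : FibZero g (a ^ n) := by
  induction n with
  | zero => rw [pow_zero]; exact FibZero.one _
  | succ n ih => rw [pow_succ]; exact FibZero.mul ih ha

theorem phi_pow (hD : AbDual.IsDualAV Scheme.fppfPrecoverage A J φ) (T : Over S) (a : Pic (PicF.XT A.hom T))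
    (ha : FibZero (PicF.XTproj A.hom T) a) (n : ℕ) : φ T (toCl (a ^ n)) = φ T (toCl a) ^ n := by
  induction n with
  | zero => rw [pow_zero, pow_zero, phi_one hD]
  | succ n ih => rw [pow_succ, pow_succ, phi_mul hD T _ _ (fibZero_pow ha n) ha, ih]

end mul

section gal

variable {L : Type u} [Field L] {C : Scheme.{u}} (f : C ⟶ Spec (CommRingCat.of L)) {Ω : Type u} [Field Ω] [Algebra L Ω]

/-- The twist is the base change of `Spec σ`. -/
theorem XTmap_specAut (σ : Ω ≃ₐ[L] Ω) : PicF.XTmap f (SGA7.specAut σ) = tw f σ := by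
  apply pullback.hom_ext
  · refine Eq.trans ?_ (tw_fst f σ).symm
    exact (pullback.lift_fst _ _ _).trans (Category.comp_id _)
  · refine Eq.trans ?_ (tw_snd f σ).symm
    exact pullback.lift_snd _ _ _

/-- `φ` is Galois equivariant. -/
theorem phi_tw {J : Over (Spec (CommRingCat.of L))}
    {φ : ∀ T : Over (Spec (CommRingCat.of L)), PicF.Cl (PicF.XT f T) → (T ⟶ J)}
    (hJ : AbDual.IsRelPicZeroK Scheme.fppfPrecoverage f J φ) (σ : Ω ≃ₐ[L] Ω) (c : Pic (pullback f (bc L Ω)))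
    (hc : FibZero (PicF.XTproj f (Over.mk (bc L Ω))) c) :
    φ (Over.mk (bc L Ω)) (toCl (pull (tw f σ) c)) = SGA7.galAct σ (φ (Over.mk (bc L Ω)) (toCl c)) := by
  have h1 := hJ.natural (Over.mk (bc L Ω)) (Over.mk (bc L Ω)) (SGA7.specAut σ) (toCl c)
    ((isPicZeroCl_toCl_iff f (Over.mk (bc L Ω)) c).2 hc)
  rw [← XTmap_specAut, toCl_pull]
  exact h1

/-- Pull back along a twist preserves `Pic⁰`. -/
theorem fibZero_tw (σ : Ω ≃ₐ[L] Ω) (c : Pic (pullback f (bc L Ω)))
    (hc : FibZero (PicF.XTproj f (Over.mk (bc L Ω))) c) :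
    FibZero (PicF.XTproj f (Over.mk (bc L Ω))) (pull (tw f σ) c) :=
  hc.pull (tw f σ) (spAut σ) (tw_snd f σ)

/-- The formal part of the Galois invariance. -/
theorem formal (J : Over (Spec (CommRingCat.of L))) [GrpObj J]
    (φ : ∀ T : Over (Spec (CommRingCat.of L)), PicF.Cl (PicF.XT f T) → (T ⟶ J))
    (hD : AbDual.IsDualAV Scheme.fppfPrecoverage (Over.mk f) J φ) (n : ℕ)
    (hgal : ∀ (σ : Ω ≃ₐ[L] Ω) (x : SGA7.Pts Ω J), x ^ n = 1 → SGA7.galAct σ x = x)
    (c : Pic (pullback f (bc L Ω))) (hc : c ^ n = 1)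
    (h0 : FibZero (PicF.XTproj f (Over.mk (bc L Ω))) c)
    (hinj : ∀ a b : Pic (pullback f (bc L Ω)), FibZero (PicF.XTproj f (Over.mk (bc L Ω))) a →
      FibZero (PicF.XTproj f (Over.mk (bc L Ω))) b →
      φ (Over.mk (bc L Ω)) (toCl a) = φ (Over.mk (bc L Ω)) (toCl b) → a = b)
    (σ : Ω ≃ₐ[L] Ω) : pull (tw f σ) c = c := by
  refine hinj _ _ (fibZero_tw f σ c h0) h0 ?_
  have hx : (φ (Over.mk (bc L Ω)) (toCl c)) ^ n = 1 := by
    have h1 := phi_pow hD (Over.mk (bc L Ω)) c h0 n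
    have h2 : φ (Over.mk (bc L Ω)) (toCl (c ^ n)) = 1 := by
      rw [hc]
      exact phi_one hD (Over.mk (bc L Ω))
    exact h1.symm.trans h2
  exact (phi_tw f hD.relPic σ c h0).trans (hgal σ _ hx)

end gal

end Groth.Agent.Models.K567.GalInv
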